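import Mathlib
import Groth.Prelude.Def_Cyc

/-!
# Generic points of fibres and going down for scheme morphisms
-/

universe u

open CategoryTheory AlgebraicGeometry IsLocalRing

namespace Groth.Agent.CycLim28

variable {X Y : Scheme.{u}} (f : X ⟶ Y)

/-- `x` is a generic point of the fibre of `f` through it. -/
def GenInFibre (x : X) : Prop := ∀ y, f y = f x → y ⤳ x → y = x

theorem fromSpecStalk_injective {Z : Scheme.{u}} (z : Z) : Function.Injective (Z.fromSpecStalk z) :=
  (Z.fromSpecStalk z).isEmbedding.injective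

theorem exists_fromSpecStalk_eq {Z : Scheme.{u}} {z z' : Z} (h : z' ⤳ z) :
    ∃ q : PrimeSpectrum (Z.presheaf.stalk z), Z.fromSpecStalk z q = z' := by
  have : z' ∈ Set.range (Z.fromSpecStalk z) := by rw [Scheme.range_fromSpecStalk]; exact h
  exact this

theorem fromSpecStalk_specializes {Z : Scheme.{u}} (z : Z) (q : PrimeSpectrum (Z.presheaf.stalk z)) :
    Z.fromSpecStalk z q ⤳ z := by
  have : Z.fromSpecStalk z q ∈ Set.range (Z.fromSpecStalk z) := ⟨q, rfl⟩
  rwa [Scheme.range_fromSpecStalk] at this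

theorem apply_fromSpecStalk (x : X) (q : PrimeSpectrum (X.presheaf.stalk x)) :
    f (X.fromSpecStalk x q) =
      Y.fromSpecStalk (f x) (PrimeSpectrum.comap (f.stalkMap x).hom q) := by
  rw [← Scheme.Hom.comp_apply, ← Scheme.SpecMap_stalkMap_fromSpecStalk, Scheme.Hom.comp_apply]
  rfl

/-- going down along a flat morphism -/
theorem exists_specializes_of_flat [Flat f] {x : X} {z : Y} (h : z ⤳ f x) :
    ∃ y, y ⤳ x ∧ f y = z := by
  obtain ⟨q, rfl⟩ := exists_fromSpecStalk_eq h
  algebraize [(f.stalkMap x).hom]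
  have : Module.Flat (Y.presheaf.stalk (f x)) (X.presheaf.stalk x) := Flat.stalkMap f x
  have : IsLocalHom (algebraMap (Y.presheaf.stalk (f x)) (X.presheaf.stalk x)) :=
    inferInstanceAs (IsLocalHom (f.stalkMap x).hom)
  have : Module.FaithfullyFlat (Y.presheaf.stalk (f x)) (X.presheaf.stalk x) :=
    Module.FaithfullyFlat.of_flat_of_isLocalHom
  obtain ⟨p, hp⟩ := PrimeSpectrum.comap_surjective_of_faithfullyFlat
    (A := Y.presheaf.stalk (f x)) (B := X.presheaf.stalk x) q
  refine ⟨X.fromSpecStalk x p, fromSpecStalk_specializes x p, ?_⟩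
  rw [apply_fromSpecStalk, ← hp]
  rfl

/-- primes above `m_{f x}` are points of the fibre generising `x` -/
theorem map_maximalIdeal_le_iff (x : X) (q : PrimeSpectrum (X.presheaf.stalk x)) :
    Ideal.map (f.stalkMap x).hom (maximalIdeal _) ≤ q.asIdeal ↔ f (X.fromSpecStalk x q) = f x := by
  rw [apply_fromSpecStalk, Ideal.map_le_iff_le_comap]
  constructor
  · intro h
    have : PrimeSpectrum.comap (f.stalkMap x).hom q = closedPoint _ :=
      PrimeSpectrum.ext ((maximalIdeal.isMaximal _).eq_of_le (Ideal.IsPrime.ne_top inferInstance) h).symm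
    rw [this, Scheme.fromSpecStalk_closedPoint]
  · intro h
    have h' : Y.fromSpecStalk (f x) (PrimeSpectrum.comap (f.stalkMap x).hom q) =
        Y.fromSpecStalk (f x) (closedPoint _) := by rw [h, Scheme.fromSpecStalk_closedPoint]
    have := congrArg PrimeSpectrum.asIdeal (fromSpecStalk_injective _ h')
    exact this.ge

theorem exists_genInFibre (x₀ : X) : ∃ x, x ⤳ x₀ ∧ f x = f x₀ ∧ GenInFibre f x := by
  let I := Ideal.map (f.stalkMap x₀).hom (maximalIdeal (Y.presheaf.stalk (f x₀)))
  have hI : I ≤ (closedPoint (X.presheaf.stalk x₀)).asIdeal :=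
    (map_maximalIdeal_le_iff f x₀ _).mpr (by rw [Scheme.fromSpecStalk_closedPoint])
  obtain ⟨p, hp, -⟩ := Ideal.exists_minimalPrimes_le hI
  let P : PrimeSpectrum (X.presheaf.stalk x₀) := ⟨p, hp.1.1⟩
  have hP : f (X.fromSpecStalk x₀ P) = f x₀ := (map_maximalIdeal_le_iff f x₀ P).mp hp.1.2
  refine ⟨X.fromSpecStalk x₀ P, fromSpecStalk_specializes x₀ P, hP, fun y hy hyx ↦ ?_⟩
  obtain ⟨q, rfl⟩ := exists_fromSpecStalk_eq (hyx.trans (fromSpecStalk_specializes x₀ P))
  have hq : I ≤ q.asIdeal := (map_maximalIdeal_le_iff f x₀ q).mpr (hy.trans hP)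
  have hqp : q.asIdeal ≤ p := by
    have : q ⤳ P := (X.fromSpecStalk x₀).isEmbedding.toIsInducing.specializes_iff.mp hyx
    exact (PrimeSpectrum.le_iff_specializes q P).mpr this
  congr 1
  exact PrimeSpectrum.ext (le_antisymm hqp (hp.2 ⟨q.2, hq⟩ hqp))

theorem eq_closedPoint_of_genInFibre {x : X} (hx : GenInFibre f x)
    (q : PrimeSpectrum (X.presheaf.stalk x))
    (hq : Ideal.map (f.stalkMap x).hom (maximalIdeal _) ≤ q.asIdeal) : q = closedPoint _ := by
  refine fromSpecStalk_injective x ?_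
  rw [Scheme.fromSpecStalk_closedPoint]
  exact hx _ ((map_maximalIdeal_le_iff f x q).mp hq) (fromSpecStalk_specializes x q)

theorem length_fibre [IsLocallyNoetherian X] {x : X} (hx : GenInFibre f x) :
    (Module.length (X.presheaf.stalk x) (X.presheaf.stalk x ⧸
      Ideal.map (f.stalkMap x).hom (maximalIdeal (Y.presheaf.stalk (f x))))).toNat ≠ 0 := by
  set J := Ideal.map (f.stalkMap x).hom (maximalIdeal (Y.presheaf.stalk (f x))) with hJ
  have hne : J ≠ ⊤ := by
    intro h
    have : J ≤ (closedPoint (X.presheaf.stalk x)).asIdeal :=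
      (map_maximalIdeal_le_iff f x _).mpr (by rw [Scheme.fromSpecStalk_closedPoint])
    exact (closedPoint (X.presheaf.stalk x)).2.ne_top (top_le_iff.mp (h ▸ this))
  have : IsNoetherianRing (X.presheaf.stalk x) := inferInstance
  have hdim : Ring.KrullDimLE 0 (X.presheaf.stalk x ⧸ J) := by
    refine Ring.KrullDimLE.mk₀ fun P hP ↦ ?_
    have h1 : J ≤ P.comap (Ideal.Quotient.mk J) := fun a ha ↦ by
      simp [Ideal.Quotient.eq_zero_iff_mem.mpr ha]
    have h2 := eq_closedPoint_of_genInFibre f hx ⟨_, hP.comap (Ideal.Quotient.mk J)⟩ h1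
    have h3 : P.comap (Ideal.Quotient.mk J) = maximalIdeal _ := congrArg PrimeSpectrum.asIdeal h2
    have := Ideal.comap_injective_of_surjective (Ideal.Quotient.mk J) Ideal.Quotient.mk_surjective
    refine Ideal.isMaximal_iff.mpr ⟨fun h ↦ hP.ne_top (Ideal.eq_top_of_isUnit_mem _ h isUnit_one), ?_⟩
    intro K a hle ha haK
    obtain ⟨a, rfl⟩ := Ideal.Quotient.mk_surjective a
    have : a ∉ P.comap (Ideal.Quotient.mk J) := ha
    rw [h3, IsLocalRing.mem_maximalIdeal, mem_nonunits_iff, not_not] at this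
    exact (Ideal.eq_top_of_isUnit_mem K haK (this.map _)).symm ▸ Submodule.mem_top
  have : IsArtinianRing (X.presheaf.stalk x ⧸ J) := isArtinianRing_iff_krullDimLE_zero.mpr hdim
  rw [Module.length_eq_of_surjective (R := X.presheaf.stalk x ⧸ J)
    (M := X.presheaf.stalk x ⧸ J) Ideal.Quotient.mk_surjective]
  intro h
  rcases ENat.toNat_eq_zero.mp h with h | h
  · have : Nontrivial (X.presheaf.stalk x ⧸ J) := Ideal.Quotient.nontrivial_iff.mpr hne
    exact Module.length_pos.ne' h
  · exact Module.length_ne_top h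

end Groth.Agent.CycLim28
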