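import Mathlib
import Groth.Prelude.Def_Cyc
import Groth.Agent.CycLim28.Fibre
import Groth.Agent.H8Lim.Stalk

/-!
# Cycles on a limit of schemes with affine flat transition maps
-/

universe u

open CategoryTheory Limits AlgebraicGeometry IsLocalRing Groth.Agent.H8Lim

namespace Groth.Agent.CycLim28

variable {I : Type u} [SmallCategory I] [IsCofiltered I] {D : I ⥤ Scheme.{u}} {c : Cone D}
  (hc : IsLimit c) [haff : ∀ {i j} (f : i ⟶ j), IsAffineHom (D.map f)]

theorem finite_support {X : Scheme.{u}} [CompactSpace X] (α : AlgebraicCycle X ℤ) :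
    (Function.support ⇑α).Finite := by
  have := LocallyFiniteSupport.finite_inter_support_of_isCompact
    (Function.locallyFinsupp.locallyFiniteSupport α) (isCompact_univ (X := X))
  exact Set.univ_inter (Function.support ⇑α) ▸ this

include hc in
theorem exists_map_disjoint [∀ i, CompactSpace (D.obj i)] {i : I} [Flat (c.π.app i)]
    (S : Set (D.obj i)) (hS : S.Finite) (h : ∀ x, c.π.app i x ∉ S) :
    ∃ (j : I) (φ : j ⟶ i), ∀ y, D.map φ y ∉ S := by
  let T : Set (D.obj i) := ⋃ ζ ∈ S, closure {ζ}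
  have hT : IsClosed T := hS.isClosed_biUnion fun _ _ ↦ isClosed_closure
  let U : (D.obj i).Opens := ⟨Tᶜ, hT.isOpen_compl⟩
  have hU : c.π.app i ⁻¹ᵁ U = ⊤ := by
    refine top_le_iff.mp fun x _ ↦ ?_
    change c.π.app i x ∉ T
    intro hx
    obtain ⟨ζ, hζ, hxζ⟩ := Set.mem_iUnion₂.mp hx
    obtain ⟨y, -, hy⟩ := exists_specializes_of_flat (c.π.app i)
      (specializes_iff_mem_closure.mpr hxζ)
    exact h y (by rwa [hy])
  obtain ⟨j, φ, hφ⟩ := exists_map_eq_top D c hc U hU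
  refine ⟨j, φ, fun y hy ↦ ?_⟩
  have : D.map φ y ∈ U := hφ.ge (Set.mem_univ y)
  exact this (Set.mem_iUnion₂.mpr ⟨_, hy, subset_closure rfl⟩)

include hc in
theorem exists_pullFun_map_eq_zero [∀ i, CompactSpace (D.obj i)] {i : I} [Flat (c.π.app i)]
    [IsLocallyNoetherian c.pt]
    (δ : (i : I) → D.obj i → ℤ) (δ' : c.pt → ℤ)
    (hshift' : ∀ x : c.pt, GenInFibre (c.π.app i) x → δ' x = δ i (c.π.app i x))
    (α : AlgebraicCycle (D.obj i) ℤ) (h0 : Cyc.pullFun (c.π.app i) δ' (δ i) 0 ⇑α = 0) :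
    ∃ (j : I) (φ : j ⟶ i), Cyc.pullFun (D.map φ) (δ j) (δ i) 0 ⇑α = 0 := by
  obtain ⟨j, φ, hj⟩ := exists_map_disjoint hc _ (finite_support α) (i := i) (fun x₀ hx₀ ↦ by
    obtain ⟨x, -, hx, hgen⟩ := exists_genInFibre (c.π.app i) x₀
    have h := congrFun h0 x
    rw [Cyc.pullFun, if_pos (by rw [hshift' x hgen, add_zero]), Pi.zero_apply] at h
    rcases mul_eq_zero.mp h with h | h
    · exact hx₀ (hx ▸ h)
    · exact (@length_fibre _ _ (c.π.app i) ‹IsLocallyNoetherian c.pt› x hgen) (by exact_mod_cast h))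
  refine ⟨j, φ, funext fun y ↦ ?_⟩
  have hy : α (D.map φ y) = 0 := Function.notMem_support.mp (hj y)
  simp [Cyc.pullFun, hy]

end Groth.Agent.CycLim28
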