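import Mathlib
import Groth.Prelude.Def_Cyc
import Groth.Agent.CycLim28.Fibre
import Groth.Agent.CycLim28.Main
import Groth.Agent.H8Lim.Stalk

/-!
# Cycles on a limit come from a stage
-/

universe u

open CategoryTheory Limits AlgebraicGeometry IsLocalRing Groth.Agent.H8Lim TopologicalSpace

namespace Groth.Agent.CycLim28

theorem genInFibre_finite {X Y : Scheme.{u}} (f : X ⟶ Y) [NoetherianSpace X] (z : Y) :
    {x : X | f x = z ∧ GenInFibre f x}.Finite := by
  obtain ⟨S, hSf, hSc, hSi, hS⟩ :=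
    NoetherianSpace.exists_finite_set_isClosed_irreducible
      (s := f ⁻¹' closure {z}) (isClosed_closure.preimage f.continuous)
  refine Set.Finite.subset (hSf.dependent_image fun t ht ↦ (hSi t ht).genericPoint) ?_
  rintro x ⟨hx, hgen⟩
  have hxm : x ∈ ⋃₀ S := hS ▸ (show f x ∈ closure {z} from hx ▸ subset_closure rfl)
  obtain ⟨t, ht, hxt⟩ := hxm
  refine ⟨t, ht, ?_⟩
  have h1 := (hSi t ht).isGenericPoint_genericPoint_closure
  rw [(hSc t ht).closure_eq] at h1
  have h2 : (hSi t ht).genericPoint ⤳ x := h1.specializes hxt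
  refine hgen _ ?_ h2
  have h3 : (hSi t ht).genericPoint ∈ f ⁻¹' closure {z} := hS ▸ ⟨t, ht, h1.mem⟩
  exact (Specializes.antisymm (by rw [hx]; exact specializes_iff_mem_closure.mpr h3)
    (h2.map f.continuous)).eq.symm

variable {I : Type u} [SmallCategory I] [IsCofiltered I] {D : I ⥤ Scheme.{u}} {c : Cone D}
  (hc : IsLimit c) [haff : ∀ {i j} (f : i ⟶ j), IsAffineHom (D.map f)]

/-- the maximal ideal at `x` comes from the stage `i` -/
def Unr (c : Cone D) (i : I) (x : c.pt) : Prop :=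
  maximalIdeal (c.pt.presheaf.stalk x) ≤
    Ideal.map ((c.π.app i).stalkMap x).hom (maximalIdeal ((D.obj i).presheaf.stalk (c.π.app i x)))

theorem Unr.mono {i j : I} (φ : j ⟶ i) {x : c.pt} (h : Unr c i x) : Unr c j x := by
  refine h.trans (Ideal.map_le_iff_le_comap.mpr fun a ha ↦ ?_)
  rw [Ideal.mem_comap, show ((c.π.app i).stalkMap x).hom a =
    ((c.π.app j).stalkMap x).hom (stalkTrans x φ a) from (stalkMap_stalkTrans_apply x φ a).symm]
  refine Ideal.mem_map_of_mem _ ?_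
  rw [mem_maximalIdeal, mem_nonunits_iff] at ha ⊢
  intro hu
  refine ha ((isUnit_map_iff ((c.π.app i).stalkMap x).hom a).mp ?_)
  rw [show ((c.π.app i).stalkMap x).hom a =
    ((c.π.app j).stalkMap x).hom (stalkTrans x φ a) from (stalkMap_stalkTrans_apply x φ a).symm]
  exact hu.map _

include hc in
theorem exists_unr [IsLocallyNoetherian c.pt] (i₀ : I) (x : c.pt) :
    ∃ (j : I) (_ : j ⟶ i₀), Unr c j x := by
  classical
  have : IsNoetherianRing (c.pt.presheaf.stalk x) := inferInstance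
  obtain ⟨s, hs⟩ := IsNoetherian.noetherian (maximalIdeal (c.pt.presheaf.stalk x))
  choose j φ a ha using fun m : (s : Set (c.pt.presheaf.stalk x)) ↦ exists_stalkMap_π_eq hc x i₀ m.1
  obtain ⟨i₁, hi₁⟩ := IsCofiltered.inf_objs_exists (insert i₀ (Finset.univ.image j))
  let ψ : ∀ m, i₁ ⟶ j m := fun m ↦ (hi₁ (by simp)).some
  refine ⟨i₁, (hi₁ (by simp : i₀ ∈ _)).some, ?_⟩
  rw [Unr, ← hs, Ideal.span_le]
  intro m hm
  have hmem : m ∈ maximalIdeal (c.pt.presheaf.stalk x) := hs ▸ Ideal.subset_span hm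
  rw [show m = _ from (ha ⟨m, hm⟩).symm, ← stalkMap_stalkTrans_apply x (ψ ⟨m, hm⟩)]
  refine Ideal.mem_map_of_mem _ ?_
  rw [mem_maximalIdeal, mem_nonunits_iff] at hmem ⊢
  intro hu
  refine hmem ?_
  rw [show m = _ from (ha ⟨m, hm⟩).symm, ← stalkMap_stalkTrans_apply x (ψ ⟨m, hm⟩)]
  exact hu.map ((c.π.app i₁).stalkMap x).hom

theorem Unr.gen {i : I} {x : c.pt} (h : Unr c i x) : GenInFibre (c.π.app i) x := by
  intro y hy hyx
  obtain ⟨q, rfl⟩ := exists_fromSpecStalk_eq hyx
  have hq := h.trans ((map_maximalIdeal_le_iff (c.π.app i) x q).mpr hy)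
  have : q = closedPoint _ :=
    PrimeSpectrum.ext ((maximalIdeal.isMaximal _).eq_of_le q.2.ne_top hq).symm
  rw [this, Scheme.fromSpecStalk_closedPoint]

theorem length_eq_one {X Y : Scheme.{u}} (f : X ⟶ Y) (x : X)
    (h : maximalIdeal (X.presheaf.stalk x) ≤
      Ideal.map (f.stalkMap x).hom (maximalIdeal (Y.presheaf.stalk (f x)))) :
    Module.length (X.presheaf.stalk x) (X.presheaf.stalk x ⧸
      Ideal.map (f.stalkMap x).hom (maximalIdeal (Y.presheaf.stalk (f x)))) = 1 := by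
  have hle : Ideal.map (f.stalkMap x).hom (maximalIdeal (Y.presheaf.stalk (f x))) ≤ maximalIdeal _ :=
    Ideal.map_le_iff_le_comap.mpr fun a ha ↦ by
      rw [Ideal.mem_comap, mem_maximalIdeal, mem_nonunits_iff]
      rw [mem_maximalIdeal, mem_nonunits_iff] at ha
      exact fun hu ↦ ha ((isUnit_map_iff (f.stalkMap x).hom a).mp hu)
  rw [le_antisymm hle h, Module.length_eq_one_iff, isSimpleModule_iff_isCoatom]
  exact (maximalIdeal.isMaximal _).out

/-- `x` is the only generic point of its fibre over stage `j`, with reduced multiplicity -/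
def Good (c : Cone D) (j : I) (x : c.pt) : Prop :=
  Unr c j x ∧ ∀ y, GenInFibre (c.π.app j) y → c.π.app j y = c.π.app j x → y = x

theorem Good.mono {j k : I} (φ : k ⟶ j) [Flat (c.π.app k)] {x : c.pt} (h : Good c j x) :
    Good c k x := by
  refine ⟨h.1.mono φ, fun y hy hxy ↦ ?_⟩
  have hj : c.π.app j y = c.π.app j x := by
    rw [← π_app_apply (D := D) φ y, hxy, π_app_apply (D := D) φ x]
  obtain ⟨g, hgy, hgj, hg⟩ := exists_genInFibre (c.π.app j) y
  obtain rfl := h.2 g hg (hgj.trans hj)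
  exact (hy _ hxy.symm hgy).symm

include hc in
theorem exists_good [IsLocallyNoetherian c.pt] [NoetherianSpace c.pt]
    (hflat : ∀ i, Flat (c.π.app i)) (i₀ : I) (x : c.pt) :
    ∃ (j : I) (_ : j ⟶ i₀), Good c j x := by
  classical
  obtain ⟨i₁, φ₁, h₁⟩ := exists_unr hc i₀ x
  let S := {g : c.pt | (c.π.app i₁ g = c.π.app i₁ x ∧ GenInFibre (c.π.app i₁) g) ∧ g ≠ x}
  have hS : S.Finite := ((@genInFibre_finite _ _ (c.π.app i₁) ‹NoetherianSpace c.pt› (c.π.app i₁ x)).inter_of_left {g | g ≠ x})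
  have hsep : ∀ g : S, ∃ i, c.π.app i g.1 ≠ c.π.app i x := fun g ↦ by
    by_contra! hh
    exact g.2.2 (ext_of_forall_π hc hh)
  choose i hi using hsep
  have := hS.to_subtype
  have := Fintype.ofFinite S
  obtain ⟨j, hj⟩ := IsCofiltered.inf_objs_exists (insert i₁ (Finset.univ.image i))
  let φ : j ⟶ i₁ := (hj (by simp)).some
  refine ⟨j, φ ≫ φ₁, h₁.mono φ, fun y hy hxy ↦ ?_⟩
  have hjy : c.π.app i₁ y = c.π.app i₁ x := by
    rw [← π_app_apply (D := D) φ y, hxy, π_app_apply (D := D) φ x]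
  obtain ⟨g, hgy, hgi, hg⟩ := exists_genInFibre (c.π.app i₁) y
  have := hflat j
  have hspec : c.π.app j g ⤳ c.π.app j x := hxy ▸ hgy.map (c.π.app j).continuous
  obtain ⟨y', hy'x, hy'⟩ := exists_specializes_of_flat (c.π.app j) hspec
  have hy'i : c.π.app i₁ y' = c.π.app i₁ x := by
    rw [← π_app_apply (D := D) φ y', hy', π_app_apply (D := D) φ g, hgi, hjy]
  obtain rfl := h₁.gen _ hy'i hy'x
  by_cases hgx : g = y'
  · subst hgx
    exact (hy _ hxy.symm hgy).symm
  · let G : S := ⟨g, ⟨hgi.trans hjy, hg⟩, hgx⟩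
    refine absurd ?_ (hi G)
    let ψ : j ⟶ i G := (hj (by simp)).some
    rw [← π_app_apply (D := D) ψ g, ← π_app_apply (D := D) ψ y', hy']

include hc in
theorem exists_pullFun_eq [∀ i, CompactSpace (D.obj i)] [IsLocallyNoetherian c.pt]
    (hflat : ∀ i, Flat (c.π.app i))
    (δ : (i : I) → D.obj i → ℤ) (δ' : c.pt → ℤ) (hδ' : Cyc.IsDimFun c.pt δ')
    (hshift' : ∀ (i : I) (x : c.pt), GenInFibre (c.π.app i) x → δ' x = δ i (c.π.app i x))
    (k : ℤ) (α' : AlgebraicCycle c.pt ℤ) (hα' : α' ∈ Cyc.Zk c.pt δ' k) :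
    ∃ (i : I) (α : AlgebraicCycle (D.obj i) ℤ), α ∈ Cyc.Zk (D.obj i) (δ i) k ∧
      Cyc.pullFun (c.π.app i) δ' (δ i) 0 ⇑α = ⇑α' := by
  classical
  have := Scheme.compactSpace_of_isLimit D c hc
  have : IsNoetherian c.pt := ⟨⟩
  have : NoetherianSpace c.pt := inferInstance
  obtain ⟨i₀⟩ := IsCofiltered.nonempty (C := I)
  let S := (finite_support α').toFinset
  have hS : ∀ x, x ∈ S ↔ α' x ≠ 0 := fun x ↦ Set.Finite.mem_toFinset _
  choose i φ hgood using fun x : S ↦ exists_good hc hflat i₀ x.1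
  obtain ⟨j, hj⟩ := IsCofiltered.inf_objs_exists (insert i₀ (Finset.univ.image i))
  have := hflat j
  have hG : ∀ x ∈ S, Good c j x := fun x hx ↦ (hgood ⟨x, hx⟩).mono (hj (by simp)).some
  let π : c.pt → D.obj j := c.π.app j
  let α : AlgebraicCycle (D.obj j) ℤ :=
    ∑ x ∈ S, Function.locallyFinsuppWithin.single (π x) (α' x)
  have hα : ∀ z, α z = ∑ x ∈ S, if z = π x then α' x else 0 := fun z ↦ by
    simp only [α, Function.locallyFinsuppWithin.coe_sum, Finset.sum_apply]
    refine Finset.sum_congr rfl fun x _ ↦ ?_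
    rw [Function.locallyFinsuppWithin.single_apply]
  have hk : ∀ x ∈ S, δ' x = k := fun x hx ↦ by
    by_contra hh
    exact (hS x).mp hx (hα' x hh)
  refine ⟨j, α, fun z hz ↦ ?_, funext fun y ↦ ?_⟩
  · rw [hα]
    refine Finset.sum_eq_zero fun x hx ↦ if_neg ?_
    rintro rfl
    exact hz ((hshift' j x (hG x hx).1.gen).symm.trans (hk x hx))
  · by_cases hy : y ∈ S
    · rw [Cyc.pullFun, if_pos (by rw [add_zero]; exact hshift' j y (hG y hy).1.gen),
        length_eq_one (c.π.app j) y (hG y hy).1, hα]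
      suffices h : (∑ x ∈ S, if π y = π x then α' x else 0) = α' y by
        change (∑ x ∈ S, if π y = π x then α' x else 0) * ((1 : ℕ∞).toNat : ℤ) = α' y
        simp [h]
      refine (Finset.sum_eq_single_of_mem y hy fun x hx hne ↦ if_neg fun (h : π y = π x) ↦
        hne ((hG y hy).2 x (hG x hx).1.gen h.symm)).trans (if_pos rfl)
    · rw [not_ne_iff.mp fun h ↦ hy ((hS y).mpr h), Cyc.pullFun]
      split_ifs with hd
      · rw [hα, Finset.sum_eq_zero fun x hx ↦ if_neg ?_, zero_mul]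
        intro h
        obtain ⟨g, hgy, hgj, hg⟩ := exists_genInFibre (c.π.app j) y
        obtain rfl := (hG x hx).2 g hg (hgj.trans h)
        have hne : g ≠ y := fun e ↦ hy (e ▸ hx)
        have h1 := (hδ' g y hgy hne).1
        rw [hd, h, add_zero] at h1
        rw [hshift' j g (hG g hx).1.gen] at h1
        exact lt_irrefl _ h1
      · rfl

end Groth.Agent.CycLim28
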